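import Cfsg.Agent.H656.LB.Ten8
import Cfsg.Agent.H656.LB.WX
import Cfsg.Agent.H632.LB.Val

/-!
# S4879, row E8: the explicit multiplicity vectors (helper656; numbers of helper632)

`RV k` : `∅, A1, 2A1, A2, 3A1, A2A1, A3, A2+2A1, 2A2, A3A1, 2A2+A1, A3A2`.
* `li10v` : `1, 8, 84, 567, 448, 1400` and the duals of the first five;
* `liCv` : `1, 84, 567, 1344, 8, 112` and the duals of the first four;
* `liAv` : `1, 84, 567, 1344, 28` and their duals.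
-/

set_option autoImplicit false

namespace Cfsg.Agent.H656.LB

open Cfsg.Agent.H632.LB.Val

/-- the twelve sets of nodes -/
def RV : Fin 12 → Finset (Fin 8) :=
  ![∅, {0}, {0, 1}, {0, 2}, {0, 1, 4}, {0, 1, 2}, {4, 5, 6}, {0, 1, 2, 4}, {0, 2, 4, 5}, {0, 4, 5, 6}, {0, 1, 2, 4, 5},
    {0, 2, 4, 5, 6}]

/-- a multiplicity; the code `0` is the trivial character, the code `1` is `28` -/
def nb (V : ℕ) (K : Finset (Fin 8)) : ℤ :=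
  if V = 0 then 1 else if V = 1 then (((8 - K.card).choose 2 : ℕ) : ℤ) else ((H632.LB.Val.look V K : ℕ) : ℤ)

/-- the dual multiplicity -/
def nbd (V : ℕ) (K : Finset (Fin 8)) : ℤ := ∑ L ∈ K.powerset, (-1) ^ L.card * nb V L

/-- the vectors of members and duals -/
def vec {a b : ℕ} (A : Fin a → ℕ) (B : Fin b → ℕ) (j : Fin (a + b)) (k : Fin 12) : ℤ :=
  Fin.addCases (fun i => nb (A i) (RV k)) (fun i => nbd (B i) (RV k)) j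

theorem li_vec (l : ℕ) [Fact l.Prime] {a b : ℕ} (A : Fin a → ℕ) (B : Fin b → ℕ) (L : List (List ℤ))
    (hL : ∀ j, List.ofFn (vec A B j) = L.getD j []) (cols : List (List ℤ))
    (h : chk2 l L (List.ofFn fun i : Fin (a + b) => (i : ℕ)) cols = true) :
    LinearIndependent ℂ fun j => fun k => (vec A B j k : ℂ) :=
  li_of_chk3 l L (vec A B) hL id _ rfl cols h

/-- the eleven vectors modulo `Φ₁₀` -/
def T10vL : List (List ℤ) :=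
  [[1, 1, 1, 1, 1, 1, 1, 1, 1, 1, 1, 1],
   [8, 7, 6, 6, 5, 5, 5, 4, 4, 4, 3, 3],
   [84, 63, 47, 42, 35, 31, 26, 23, 20, 19, 15, 12],
   [567, 378, 246, 216, 156, 135, 110, 82, 69, 65, 40, 30],
   [448, 280, 176, 136, 112, 86, 56, 56, 42, 36, 29, 18],
   [1400, 875, 540, 440, 330, 265, 190, 159, 124, 111, 74, 49],
   [1, 0, 0, 0, 0, 0, 0, 0, 0, 0, 0, 0],
   [8, 1, 0, 0, 0, 0, 0, 0, 0, 0, 0, 0],
   [84, 21, 5, 0, 1, 0, 0, 0, 0, 0, 0, 0],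
   [567, 189, 57, 27, 15, 6, 1, 1, 0, 0, 0, 0],
   [448, 168, 64, 24, 24, 10, 0, 4, 2, 0, 1, 0]]

/-- inverse modulo 3 -/
def T10vC : List (List ℤ) :=
  [[0, 0, 2, 0, 2, 0, 0, 0, 2, 0, 0, 1],
   [0, 0, 1, 2, 1, 0, 0, 0, 0, 2, 2, 1],
   [0, 0, 1, 2, 1, 0, 2, 1, 1, 1, 2, 1],
   [0, 0, 1, 1, 1, 0, 2, 1, 0, 2, 1, 0],
   [0, 0, 2, 1, 2, 0, 0, 0, 2, 0, 0, 2],
   [0, 0, 1, 0, 1, 0, 0, 0, 1, 0, 0, 0],
   [1, 1, 0, 1, 0, 0, 2, 1, 2, 2, 0, 2],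
   [0, 1, 2, 0, 2, 0, 0, 0, 0, 1, 1, 2],
   [0, 0, 1, 0, 2, 0, 2, 1, 0, 0, 1, 2],
   [0, 0, 2, 0, 2, 0, 2, 2, 0, 2, 2, 0],
   [0, 0, 0, 0, 0, 0, 1, 2, 1, 1, 0, 1]]

theorem T10v_row : ∀ j, List.ofFn (vec (a := 6) (b := 5) ![0, V8, V84, V567, V448, V1400] ![0, V8, V84, V567, V448] j) = T10vL.getD j [] := by decide +kernel

instance : Fact (Nat.Prime 3) := ⟨by norm_num⟩

theorem li10v : LinearIndependent ℂ fun j => fun k => (vec (a := 6) (b := 5) ![0, V8, V84, V567, V448, V1400] ![0, V8, V84, V567, V448] j k : ℂ) :=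
  li_vec 3 _ _ T10vL T10v_row T10vC (by decide +kernel)

/-- the ten vectors modulo `Φ₅`, with `8`, `112` -/
def CvL : List (List ℤ) :=
  [[1, 1, 1, 1, 1, 1, 1, 1, 1, 1, 1, 1],
   [84, 63, 47, 42, 35, 31, 26, 23, 20, 19, 15, 12],
   [567, 378, 246, 216, 156, 135, 110, 82, 69, 65, 40, 30],
   [1344, 840, 520, 420, 320, 255, 180, 155, 120, 107, 73, 48],
   [8, 7, 6, 6, 5, 5, 5, 4, 4, 4, 3, 3],
   [112, 84, 62, 57, 45, 41, 36, 29, 26, 25, 18, 15],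
   [1, 0, 0, 0, 0, 0, 0, 0, 0, 0, 0, 0],
   [84, 21, 5, 0, 1, 0, 0, 0, 0, 0, 0, 0],
   [567, 189, 57, 27, 15, 6, 1, 1, 0, 0, 0, 0],
   [1344, 504, 184, 84, 64, 29, 4, 9, 4, 1, 1, 0]]

/-- inverse modulo 7 -/
def CvC : List (List ℤ) :=
  [[0, 1, 0, 0, 0, 0, 0, 0, 0, 0, 0, 0],
   [0, 2, 6, 5, 5, 5, 0, 6, 3, 0, 3, 0],
   [0, 3, 2, 3, 4, 5, 0, 2, 3, 6, 0, 0],
   [0, 0, 1, 0, 2, 2, 0, 6, 0, 4, 6, 0],
   [0, 1, 4, 3, 1, 4, 0, 2, 4, 2, 0, 0],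
   [0, 0, 1, 0, 2, 3, 0, 0, 2, 6, 0, 0],
   [1, 5, 3, 4, 6, 3, 0, 5, 3, 5, 0, 0],
   [0, 5, 1, 1, 3, 3, 0, 0, 4, 0, 4, 0],
   [0, 4, 2, 0, 4, 1, 0, 3, 2, 5, 0, 0],
   [0, 0, 0, 6, 0, 3, 0, 2, 4, 5, 1, 0]]

theorem Cv_row : ∀ j, List.ofFn (vec (a := 6) (b := 4) ![0, V84, V567, V1344, V8, V112] ![0, V84, V567, V1344] j) = CvL.getD j [] := by decide +kernel

instance : Fact (Nat.Prime 7) := ⟨by norm_num⟩

theorem liCv : LinearIndependent ℂ fun j => fun k => (vec (a := 6) (b := 4) ![0, V84, V567, V1344, V8, V112] ![0, V84, V567, V1344] j k : ℂ) :=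
  li_vec 7 _ _ CvL Cv_row CvC (by decide +kernel)

/-- the ten vectors modulo `Φ₅`, with `28` -/
def AvL : List (List ℤ) :=
  [[1, 1, 1, 1, 1, 1, 1, 1, 1, 1, 1, 1],
   [84, 63, 47, 42, 35, 31, 26, 23, 20, 19, 15, 12],
   [567, 378, 246, 216, 156, 135, 110, 82, 69, 65, 40, 30],
   [1344, 840, 520, 420, 320, 255, 180, 155, 120, 107, 73, 48],
   [28, 21, 15, 15, 10, 10, 10, 6, 6, 6, 3, 3],
   [1, 0, 0, 0, 0, 0, 0, 0, 0, 0, 0, 0],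
   [84, 21, 5, 0, 1, 0, 0, 0, 0, 0, 0, 0],
   [567, 189, 57, 27, 15, 6, 1, 1, 0, 0, 0, 0],
   [1344, 504, 184, 84, 64, 29, 4, 9, 4, 1, 1, 0],
   [28, 7, 1, 1, 0, 0, 0, 0, 0, 0, 0, 0]]

/-- inverse modulo 5 -/
def AvC : List (List ℤ) :=
  [[0, 1, 3, 0, 4, 3, 0, 2, 4, 2, 0, 2],
   [0, 1, 3, 0, 4, 0, 0, 0, 0, 1, 2, 4],
   [0, 4, 2, 0, 1, 4, 0, 1, 1, 1, 2, 4],
   [0, 4, 2, 0, 1, 3, 0, 2, 4, 1, 0, 3],
   [0, 0, 0, 0, 0, 1, 0, 4, 3, 1, 2, 4],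
   [1, 0, 2, 0, 1, 0, 0, 4, 3, 1, 0, 3],
   [0, 2, 1, 0, 4, 3, 0, 2, 0, 4, 3, 1],
   [0, 0, 0, 0, 0, 3, 0, 3, 1, 4, 3, 1],
   [0, 2, 1, 0, 3, 0, 0, 0, 0, 2, 0, 2],
   [0, 0, 1, 0, 0, 2, 0, 1, 3, 4, 3, 1]]

theorem Av_row : ∀ j, List.ofFn (vec (a := 5) (b := 5) ![0, V84, V567, V1344, 1] ![0, V84, V567, V1344, 1] j) = AvL.getD j [] := by decide +kernel

instance : Fact (Nat.Prime 5) := ⟨by norm_num⟩

theorem liAv : LinearIndependent ℂ fun j => fun k => (vec (a := 5) (b := 5) ![0, V84, V567, V1344, 1] ![0, V84, V567, V1344, 1] j k : ℂ) :=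
  li_vec 5 _ _ AvL Av_row AvC (by decide +kernel)

end Cfsg.Agent.H656.LB
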